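import Cfsg.Agent.CosetCert.J1Ab25080.Defs

/-! Generated: kernel checks. -/

set_option Elab.async false

namespace Cfsg.Agent.CosetCert.J1Ab25080

theorem coset_okAt0 : allFrom data.checkCoset 0 1000 = true := by decide +kernel

theorem coset_okAt1000 : allFrom data.checkCoset 1000 1000 = true := by decide +kernel

theorem coset_okAt2000 : allFrom data.checkCoset 2000 1000 = true := by decide +kernel

theorem coset_okAt3000 : allFrom data.checkCoset 3000 1000 = true := by decide +kernel

theorem coset_okAt4000 : allFrom data.checkCoset 4000 1000 = true := by decide +kernel

theorem coset_okAt5000 : allFrom data.checkCoset 5000 1000 = true := by decide +kernel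

theorem coset_okAt6000 : allFrom data.checkCoset 6000 1000 = true := by decide +kernel

theorem coset_okAt7000 : allFrom data.checkCoset 7000 1000 = true := by decide +kernel

theorem coset_okAt8000 : allFrom data.checkCoset 8000 1000 = true := by decide +kernel

theorem coset_okAt9000 : allFrom data.checkCoset 9000 1000 = true := by decide +kernel

theorem coset_okAt10000 : allFrom data.checkCoset 10000 1000 = true := by decide +kernel

theorem coset_okAt11000 : allFrom data.checkCoset 11000 1000 = true := by decide +kernel

theorem coset_okAt12000 : allFrom data.checkCoset 12000 1000 = true := by decide +kernel

theorem coset_okAt13000 : allFrom data.checkCoset 13000 1000 = true := by decide +kernel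

theorem coset_okAt14000 : allFrom data.checkCoset 14000 1000 = true := by decide +kernel

theorem coset_okAt15000 : allFrom data.checkCoset 15000 1000 = true := by decide +kernel

theorem coset_okAt16000 : allFrom data.checkCoset 16000 1000 = true := by decide +kernel

theorem coset_okAt17000 : allFrom data.checkCoset 17000 1000 = true := by decide +kernel

theorem coset_okAt18000 : allFrom data.checkCoset 18000 1000 = true := by decide +kernel

theorem coset_okAt19000 : allFrom data.checkCoset 19000 1000 = true := by decide +kernel

theorem coset_okAt20000 : allFrom data.checkCoset 20000 1000 = true := by decide +kernel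

theorem coset_okAt21000 : allFrom data.checkCoset 21000 1000 = true := by decide +kernel

theorem coset_okAt22000 : allFrom data.checkCoset 22000 1000 = true := by decide +kernel

theorem coset_okAt23000 : allFrom data.checkCoset 23000 1000 = true := by decide +kernel

theorem coset_okAt24000 : allFrom data.checkCoset 24000 1000 = true := by decide +kernel

theorem coset_okAt25000 : allFrom data.checkCoset 25000 80 = true := by decide +kernel

end Cfsg.Agent.CosetCert.J1Ab25080
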