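import Cfsg.Agent.CosetCert.J1Ab25080.FactsData
import Cfsg.Agent.CosetCert.J1Ab25080.JustData
import Cfsg.Agent.CosetCert.J1Ab25080.EdgeData
import Cfsg.Agent.CosetCert.J1Ab25080.RepData
import Cfsg.Agent.CosetCert.J1Ab25080.TreeData
import Cfsg.Agent.CosetCert.CoxExtra
import Cfsg.Agent.CosetCert.Pack

/-! Generated: the certificate. -/

set_option maxRecDepth 100000

namespace Cfsg.Agent.CosetCert.J1Ab25080

noncomputable def data : Data where
  K := 3
  n := 25080
  M := 26465
  Nf := 40479
  nR := 9
  iv := fun x => if x = 1 then 2 else if x = 2 then 1 else x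
  F := get48 factStore
  J := getVar justStore
  E := get48 edgeStore
  L := get48 repStore
  P := get48 treeStore
  W := [

    [0, 0],
    [1, 1, 1],
    [0, 1, 0, 1, 0, 1, 0, 1, 0, 1, 0, 1, 0, 1],
    [0, 1, 0, 1, 0, 1, 1, 0, 1, 0, 1, 1, 0, 1, 0, 1, 1, 0, 1, 0, 1, 0, 1, 1, 0, 1, 0, 1, 1, 0, 1, 0, 1, 1, 0, 1, 0, 1, 0, 1, 1, 0, 1, 0, 1, 1, 0, 1, 0, 1, 1, 0, 1, 0, 1, 0, 1, 1, 0, 1, 0, 1, 1, 0, 1, 0, 1, 1, 0, 1, 0, 1, 0, 1, 1, 0, 1, 0, 1, 1, 0, 1, 0, 1, 1],
    [0, 1, 0, 1, 0, 1, 1, 0, 1, 0, 1, 1, 0, 1, 0, 1, 1, 0, 1, 0, 1, 1, 0, 1, 0, 1, 1, 0, 1, 0, 1, 1, 0, 1, 0, 1, 0, 1, 1, 0, 1, 1, 0, 1, 0, 1, 0, 1, 1, 0, 1, 0, 1, 1, 0, 1, 0, 1, 1, 0, 1, 0, 1, 1, 0, 1, 0, 1, 1, 0, 1, 0, 1, 1, 0, 1, 0, 1, 0, 1, 1, 0, 1, 1],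
    [],
    [0, 0],
    [1, 2],
    [2, 1],
    [0, 1]]
  PW := fun k => Nat.land (Nat.shiftRight 0x8200000000000000000000000000000000000000000000000000000000000000000000000000000000000000000000000000000000430000000000000000000000000000000000000000000000000000000000000000000000000000000000000000000000000000000031000000000000000000000000000000000000000000000000000000000000000000000000000000000000000000000000000000000840000000000000000000000000000000000000000000000000000000000000000000000000000000000000000000000000000000000010822104411044208822104411082208841104420882210441104420884110441108220884110442088221044110822088411044110822088411044208822088411044208822104411044208822104411082208822104411082208841104411082208841104420882208000000000000000000000000000000000000000000000000000000000000000000000000000000000000000010441104411044110400000000000000000000000000000000000000000000000000000000000000000000000000000000000000000000000000000010840000000000000000000000000000000000000000000000000000000000000000000000000000000000000000000000000000000021 (Nat.mul 425 k)) 0x1ffffffffffffffffffffffffffffffffffffffffffffffffffffffffffffffffffffffffffffffffffffffffffffffffffffffffff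
  powers := [

    ([0], 2),
    ([1], 3),
    ([0, 1], 7),
    ([0, 1, 0, 1, 0, 1, 1, 0, 1, 0, 1, 1, 0, 1, 0, 1, 1], 5),
    ([0, 1, 0, 1, 0, 1, 1, 0, 1, 0, 1, 1, 0, 1, 0, 1, 1, 0, 1, 0, 1, 1, 0, 1, 0, 1, 1, 0, 1, 0, 1, 1, 0, 1, 0, 1, 0, 1, 1, 0, 1, 1], 2),
    ([], 0),
    ([0], 2),
    ([1, 2], 1),
    ([2, 1], 1)]

/-- The relators of the presentation. -/
def relWords : List (List (Fin 2 × Bool)) := [
    [(0, true), (0, true)],
    [(1, true), (1, true), (1, true)],
    [(0, true), (1, true), (0, true), (1, true), (0, true), (1, true), (0, true), (1, true), (0, true), (1, true), (0, true), (1, true), (0, true), (1, true)],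
    [(0, true), (1, true), (0, true), (1, true), (0, true), (1, true), (1, true), (0, true), (1, true), (0, true), (1, true), (1, true), (0, true), (1, true), (0, true), (1, true), (1, true), (0, true), (1, true), (0, true), (1, true), (0, true), (1, true), (1, true), (0, true), (1, true), (0, true), (1, true), (1, true), (0, true), (1, true), (0, true), (1, true), (1, true), (0, true), (1, true), (0, true), (1, true), (0, true), (1, true), (1, true), (0, true), (1, true), (0, true), (1, true), (1, true), (0, true), (1, true), (0, true), (1, true), (1, true), (0, true), (1, true), (0, true), (1, true), (0, true), (1, true), (1, true), (0, true), (1, true), (0, true), (1, true), (1, true), (0, true), (1, true), (0, true), (1, true), (1, true), (0, true), (1, true), (0, true), (1, true), (0, true), (1, true), (1, true), (0, true), (1, true), (0, true), (1, true), (1, true), (0, true), (1, true), (0, true), (1, true), (1, true)],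
    [(0, true), (1, true), (0, true), (1, true), (0, true), (1, true), (1, true), (0, true), (1, true), (0, true), (1, true), (1, true), (0, true), (1, true), (0, true), (1, true), (1, true), (0, true), (1, true), (0, true), (1, true), (1, true), (0, true), (1, true), (0, true), (1, true), (1, true), (0, true), (1, true), (0, true), (1, true), (1, true), (0, true), (1, true), (0, true), (1, true), (0, true), (1, true), (1, true), (0, true), (1, true), (1, true), (0, true), (1, true), (0, true), (1, true), (0, true), (1, true), (1, true), (0, true), (1, true), (0, true), (1, true), (1, true), (0, true), (1, true), (0, true), (1, true), (1, true), (0, true), (1, true), (0, true), (1, true), (1, true), (0, true), (1, true), (0, true), (1, true), (1, true), (0, true), (1, true), (0, true), (1, true), (1, true), (0, true), (1, true), (0, true), (1, true), (0, true), (1, true), (1, true), (0, true), (1, true), (1, true)]]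

/-- The numbering of the generators. -/
def enc (b : Fin 2) : Nat := b.val

/-- The generator of a number. -/
def dec : Nat → Fin 2 × Bool
  | 0 => (0, true)
  | 1 => (1, true)
  | _ => (1, false)

/-- The subgroup's generator. -/
def subGens : List (FreeGroup (Fin 2)) := [FreeGroup.of 0 * FreeGroup.of 1]

end Cfsg.Agent.CosetCert.J1Ab25080
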